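import Mathlib
import Groth.Prelude.Def_ProEtS
import Groth.Prelude.Def_PBC
import Groth.Agent.Lib.Helper6.IndEtLift.IL3
import Groth.Agent.Lib.Helper6.IndEtWeakly
import Groth.Agent.Lib.Helper9.FE.WStr5
import Groth.Agent.Lib.Helper5.WEt.Scheme

/-! helper6: lifting weakly étale morphisms along closed immersions of affine schemes, locally
for the pro-étale topology: for a closed immersion `ι : P ⟶ Y` into an affine scheme and a weakly
étale `g : W ⟶ P` with `W` affine there are a weakly étale `h : Y' ⟶ Y` with `Y'` affine and a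
surjective `P`-morphism `Y' ×_Y P ⟶ W`. -/

set_option autoImplicit false
set_option linter.unusedSectionVars false
set_option linter.unusedVariables false
set_option linter.unusedSimpArgs false
set_option linter.style.haveILetI false
set_option maxHeartbeats 800000
set_option synthInstance.maxHeartbeats 400000
set_option backward.isDefEq.respectTransparency false

universe u
open CategoryTheory Limits Opposite AlgebraicGeometry

namespace Groth.Agent.Lib.Helper6.ClImm

/-- The square of rings `A → B`, `A → A ⧸ I`, `B → B ⧸ I B` is a pushout (copied from helper4's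
`HensCouple4.isPushout_quot`). -/
theorem isPushout_quot {A B : Type u} [CommRing A] [CommRing B] (φ : A →+* B) (I : Ideal A) :
    IsPushout (CommRingCat.ofHom (Ideal.Quotient.mk I)) (CommRingCat.ofHom φ)
      (CommRingCat.ofHom (Ideal.quotientMap (I.map φ) φ Ideal.le_comap_map))
      (CommRingCat.ofHom (Ideal.Quotient.mk (I.map φ))) := by
  have w : CommRingCat.ofHom (Ideal.Quotient.mk I) ≫
      CommRingCat.ofHom (Ideal.quotientMap (I.map φ) φ Ideal.le_comap_map) =
      CommRingCat.ofHom φ ≫ CommRingCat.ofHom (Ideal.Quotient.mk (I.map φ)) := by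
    ext x
    rfl
  have hker : ∀ s : PushoutCocone (CommRingCat.ofHom (Ideal.Quotient.mk I)) (CommRingCat.ofHom φ),
      ∀ x ∈ I.map φ, s.inr.hom x = 0 := by
    intro s
    have : I.map φ ≤ RingHom.ker s.inr.hom := by
      rw [Ideal.map_le_iff_le_comap]
      intro x hx
      have h1 := congrArg (fun m => m.hom x) s.condition
      change s.inl.hom (Ideal.Quotient.mk I x) = s.inr.hom (φ x) at h1
      rw [Ideal.mem_comap, RingHom.mem_ker, ← h1, Ideal.Quotient.eq_zero_iff_mem.2 hx, map_zero]
    exact fun x hx => this hx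
  refine ⟨⟨w⟩, ⟨PushoutCocone.IsColimit.mk _
    (fun s => CommRingCat.ofHom (Ideal.Quotient.lift (I.map φ) s.inr.hom (hker s))) ?_ ?_ ?_⟩⟩
  · intro s
    ext x
    have h1 := congrArg (fun m => m.hom x) s.condition
    change s.inl.hom (Ideal.Quotient.mk I x) = s.inr.hom (φ x) at h1
    change Ideal.Quotient.lift (I.map φ) s.inr.hom (hker s)
      (Ideal.quotientMap (I.map φ) φ Ideal.le_comap_map (Ideal.Quotient.mk I x)) = _
    rw [Ideal.quotientMap_mk, Ideal.Quotient.lift_mk]
    exact h1.symm
  · intro s
    ext x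
    change Ideal.Quotient.lift (I.map φ) s.inr.hom (hker s) (Ideal.Quotient.mk _ x) = _
    rw [Ideal.Quotient.lift_mk]
  · intro s m _ h2
    ext x
    have := congrArg (fun m => m.hom x) h2
    change m.hom (Ideal.Quotient.mk _ x) = s.inr.hom x at this
    change m.hom (Ideal.Quotient.mk _ x) = Ideal.Quotient.lift (I.map φ) s.inr.hom (hker s)
      (Ideal.Quotient.mk _ x)
    rw [Ideal.Quotient.lift_mk, this]

/-- ring-level lifting: a weakly étale `A ⧸ I`-algebra is dominated, faithfully flatly, by the
reduction of a weakly étale `A`-algebra. -/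
theorem exists_lift_spec (A : Type u) [CommRing A] (I : Ideal A) (Cb : Type u) [CommRing Cb]
    [Algebra (A ⧸ I) Cb] [Algebra.WeaklyEtale (A ⧸ I) Cb] :
    ∃ (D : Type u) (_ : CommRing D) (_ : Algebra A D) (_ : Algebra.WeaklyEtale A D)
      (ψ : Cb →+* (D ⧸ I.map (algebraMap A D))),
      (∀ q : A ⧸ I, ψ (algebraMap (A ⧸ I) Cb q) =
        Ideal.quotientMap (I.map (algebraMap A D)) (algebraMap A D) Ideal.le_comap_map q) ∧
      Function.Surjective (PrimeSpectrum.comap ψ) := by
  obtain ⟨Db, _, algCD, algQD, towQCD, hff, -, hind⟩ := H9FE.WStr.main176 (A ⧸ I) Cb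
  obtain ⟨D, _, algAD, hindD, ⟨e⟩⟩ := Groth.Agent.Lib.Helper6.IndEtLift.main A I Db hind
  have hWE : Algebra.WeaklyEtale A D :=
    Groth.Agent.Lib.Helper6.IndEt.weaklyEtale_of_isIndEtale A D hindD
  refine ⟨D, inferInstance, algAD, hWE,
    (e.symm : Db →+* (D ⧸ I.map (algebraMap A D))).comp (algebraMap Cb Db), ?_, ?_⟩
  · intro q
    have h1 : algebraMap Cb Db (algebraMap (A ⧸ I) Cb q) = algebraMap (A ⧸ I) Db q :=
      (IsScalarTower.algebraMap_apply (A ⧸ I) Cb Db q).symm
    show e.symm (algebraMap Cb Db (algebraMap (A ⧸ I) Cb q)) = _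
    rw [h1, e.symm.commutes]
    rfl
  · rw [PrimeSpectrum.comap_comp]
    refine Function.Surjective.comp ?_ ?_
    · haveI := hff
      exact PrimeSpectrum.comap_surjective_of_faithfullyFlat
    · intro p
      refine ⟨PrimeSpectrum.comap (e : (D ⧸ I.map (algebraMap A D)) →+* Db) p, ?_⟩
      rw [← PrimeSpectrum.comap_comp_apply]
      have h2 : (e : (D ⧸ I.map (algebraMap A D)) →+* Db).comp
          (e.symm : Db →+* (D ⧸ I.map (algebraMap A D))) = RingHom.id _ := by
        ext x
        exact e.apply_symm_apply x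
      rw [h2]
      rfl

end Groth.Agent.Lib.Helper6.ClImm
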