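import Mathlib
import Groth.Agent.Lib.Helper6.ClImm.CI1

/-! helper6: scheme-level lifting of weakly étale morphisms along a closed immersion into an
affine scheme, locally for the pro-étale topology. -/

set_option autoImplicit false
set_option linter.unusedSectionVars false
set_option linter.unusedVariables false
set_option linter.unusedSimpArgs false
set_option linter.style.haveILetI false
set_option maxHeartbeats 800000
set_option synthInstance.maxHeartbeats 400000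
set_option backward.isDefEq.respectTransparency false

universe u
open CategoryTheory Limits Opposite AlgebraicGeometry

namespace Groth.Agent.Lib.Helper6.ClImm

theorem exists_weaklyEtale_lift {Y P W : Scheme.{u}} [IsAffine Y] [IsAffine W] (ι : P ⟶ Y)
    [IsClosedImmersion ι] (g : W ⟶ P) [WeaklyEtale g] :
    ∃ (Y' : Scheme.{u}) (h : Y' ⟶ Y) (c : pullback h ι ⟶ W), IsAffine Y' ∧ WeaklyEtale h ∧
      c ≫ g = pullback.snd h ι ∧ Surjective c := by
  haveI hP : IsAffine P := isAffine_of_isAffineHom ι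
  obtain ⟨φ, hφ⟩ : ∃ φ : Γ(Y, ⊤) →+* Γ(P, ⊤), φ = ι.appTop.hom := ⟨_, rfl⟩
  have hs : Function.Surjective φ := by
    rw [hφ]
    exact (IsClosedImmersion.isAffine_surjective_of_isAffine ι).2
  obtain ⟨I, hI⟩ : ∃ I : Ideal Γ(Y, ⊤), I = RingHom.ker φ := ⟨_, rfl⟩
  have hkill : ∀ a ∈ I, φ a = 0 := fun a ha => by
    rw [hI] at ha
    exact ha
  obtain ⟨φb, hφb⟩ : ∃ φb : Γ(Y, ⊤) ⧸ I →+* Γ(P, ⊤), φb = Ideal.Quotient.lift I φ hkill :=
    ⟨_, rfl⟩
  have hφb_mk : ∀ a, φb (Ideal.Quotient.mk I a) = φ a := by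
    intro a
    rw [hφb]
    rfl
  have hbij : Function.Bijective φb := by
    constructor
    · rw [injective_iff_map_eq_zero]
      intro x hx
      obtain ⟨a, rfl⟩ := Ideal.Quotient.mk_surjective x
      rw [hφb_mk] at hx
      rw [Ideal.Quotient.eq_zero_iff_mem, hI]
      exact hx
    · intro y
      obtain ⟨a, rfl⟩ := hs y
      exact ⟨Ideal.Quotient.mk I a, hφb_mk a⟩
  haveI hiso : IsIso (CommRingCat.ofHom φb) :=
    (ConcreteCategory.isIso_iff_bijective (CommRingCat.ofHom φb)).mpr hbij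
  have hfac : CommRingCat.ofHom (Ideal.Quotient.mk I) ≫ CommRingCat.ofHom φb = ι.appTop := by
    ext a
    exact (hφb_mk a).trans (by rw [hφ])
  -- the algebra structure on the functions of `W`
  obtain ⟨κ, hκ⟩ : ∃ κ : Γ(Y, ⊤) ⧸ I →+* Γ(W, ⊤), κ = g.appTop.hom.comp φb := ⟨_, rfl⟩
  have hWE1 : WeaklyEtale (Spec.map g.appTop) := by
    have h1 : Spec.map g.appTop = W.isoSpec.inv ≫ g ≫ P.isoSpec.hom := by
      rw [← Scheme.isoSpec_hom_naturality, Iso.inv_hom_id_assoc]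
    rw [h1]
    infer_instance
  have hWE2 : WeaklyEtale (Spec.map (CommRingCat.ofHom κ)) := by
    have h2 : CommRingCat.ofHom κ = CommRingCat.ofHom φb ≫ g.appTop := by
      rw [hκ]
      rfl
    rw [h2, Spec.map_comp]
    infer_instance
  letI algκ : Algebra (Γ(Y, ⊤) ⧸ I) Γ(W, ⊤) := κ.toAlgebra
  haveI hWE3 : Algebra.WeaklyEtale (Γ(Y, ⊤) ⧸ I) Γ(W, ⊤) :=
    (Helper5.WEt.weaklyEtale_Spec_iff' (CommRingCat.ofHom κ)).mp hWE2
  obtain ⟨D, _, algAD, hWED, ψ, hψ, hsurj⟩ := exists_lift_spec Γ(Y, ⊤) I Γ(W, ⊤)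
  haveI hWh0 : WeaklyEtale (Spec.map (CommRingCat.ofHom (algebraMap Γ(Y, ⊤) D))) :=
    (Helper5.WEt.weaklyEtale_Spec_iff Γ(Y, ⊤) D).mpr hWED
  -- the two pullback squares
  have s : IsPullback (Spec.map (CommRingCat.ofHom (Ideal.Quotient.mk (I.map (algebraMap Γ(Y, ⊤) D)))))
      (Spec.map (CommRingCat.ofHom (Ideal.quotientMap (I.map (algebraMap Γ(Y, ⊤) D)) (algebraMap Γ(Y, ⊤) D) Ideal.le_comap_map)))
      (Spec.map (CommRingCat.ofHom (algebraMap Γ(Y, ⊤) D))) (Spec.map (CommRingCat.ofHom (Ideal.Quotient.mk I))) :=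
    isPullback_SpecMap_of_isPushout _ _ _ _ (isPushout_quot (algebraMap Γ(Y, ⊤) D) I).flip
  obtain ⟨β, hβ⟩ : ∃ β : Spec (CommRingCat.of (Γ(Y, ⊤) ⧸ I)) ⟶ P,
      β = Spec.map (inv (CommRingCat.ofHom φb)) ≫ P.isoSpec.inv := ⟨_, rfl⟩
  haveI hβiso : IsIso β := by
    rw [hβ]
    infer_instance
  have hcomm : Spec.map (CommRingCat.ofHom (Ideal.Quotient.mk I)) ≫ Y.isoSpec.inv = β ≫ ι := by
    rw [hβ, Category.assoc, ← Scheme.isoSpec_inv_naturality, ← Category.assoc, ← Spec.map_comp,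
      ← hfac, Category.assoc, IsIso.hom_inv_id, Category.comp_id]
  have t : IsPullback (Spec.map (CommRingCat.ofHom (Ideal.Quotient.mk I))) β Y.isoSpec.inv ι :=
    IsPullback.of_vert_isIso ⟨hcomm⟩
  have hpb := s.paste_vert t
  -- the compatibility of ring maps
  have hring : g.appTop ≫ CommRingCat.ofHom ψ =
      inv (CommRingCat.ofHom φb) ≫
        CommRingCat.ofHom (Ideal.quotientMap (I.map (algebraMap Γ(Y, ⊤) D)) (algebraMap Γ(Y, ⊤) D) Ideal.le_comap_map) := by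
    rw [← cancel_epi (CommRingCat.ofHom φb), IsIso.hom_inv_id_assoc]
    ext q
    have h1 := hψ q
    have h2 : algebraMap (Γ(Y, ⊤) ⧸ I) Γ(W, ⊤) q = g.appTop.hom (φb q) := by
      show κ q = _
      rw [hκ]
      rfl
    rw [h2] at h1
    exact h1
  haveI hsurjψ : Surjective (Spec.map (CommRingCat.ofHom ψ)) := ⟨hsurj⟩
  refine ⟨Spec (CommRingCat.of D), Spec.map (CommRingCat.ofHom (algebraMap Γ(Y, ⊤) D)) ≫ Y.isoSpec.inv,
    hpb.isoPullback.inv ≫ Spec.map (CommRingCat.ofHom ψ) ≫ W.isoSpec.inv,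
    inferInstance, inferInstance, ?_, inferInstance⟩
  rw [Category.assoc, Category.assoc, ← Scheme.isoSpec_inv_naturality, ← Category.assoc
    (Spec.map (CommRingCat.ofHom ψ)), ← Spec.map_comp, hring, Spec.map_comp, Category.assoc,
    ← hβ]
  exact hpb.isoPullback_inv_snd

end Groth.Agent.Lib.Helper6.ClImm
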