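import Mathlib
import Groth.Prelude.Def_ProEtS
import Groth.Prelude.Def_PBC
import Groth.Agent.Lib.Helper6.ClImm.CI2
import Groth.Agent.Lib.Helper9.FE.ProEtW6
import Groth.Agent.S0730

/-! helper6: for a closed immersion `i : Z ⟶ X` the base change functor `X.ProEt ⥤ Z.ProEt` is
cover-dense and locally full for the pro-étale topology of `Z`; hence `i_*` is fully faithful on
sheaves (S0741). -/

set_option autoImplicit false
set_option linter.unusedSectionVars false
set_option linter.unusedVariables false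
set_option linter.unusedSimpArgs false
set_option linter.style.haveILetI false
set_option maxHeartbeats 800000
set_option synthInstance.maxHeartbeats 400000
set_option backward.isDefEq.respectTransparency false

universe u
open CategoryTheory Limits Opposite AlgebraicGeometry

namespace Groth.Agent.Lib.Helper6.ClImm

open H9FE.ProEtQc H9FE.ProEtW

variable {Z X : Scheme.{u}} (i : Z ⟶ X) [IsClosedImmersion i]

/-- the affine case of the key lemma -/
theorem exists_cover_affine (T : X.ProEt) (W : Z.ProEt) [IsAffine T.left] [IsAffine W.left]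
    (w : W ⟶ (ProEtS.bcP i).obj T) :
    ∃ (T' : X.ProEt) (a : T' ⟶ T) (c : (ProEtS.bcP i).obj T' ⟶ W),
      IsAffine T'.left ∧ c ≫ w = (ProEtS.bcP i).map a ∧ Surjective c.left := by
  haveI haffT : IsAffine ((𝟭 Scheme).obj T.left) := ‹IsAffine T.left›
  haveI haffW : IsAffine ((𝟭 Scheme).obj W.left) := ‹IsAffine W.left›
  haveI hwe : WeaklyEtale (w.left : W.left ⟶ pullback T.hom i) :=
    (inferInstance : WeaklyEtale w.left)
  obtain ⟨Y', h, c0, hY', hh, hc0, hsurj⟩ :=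
    exists_weaklyEtale_lift (Y := T.left) (P := pullback T.hom i) (W := W.left)
      (pullback.fst T.hom i) (w.left : W.left ⟶ pullback T.hom i)
  haveI := hh
  haveI := hsurj
  have hwW : (w.left : W.left ⟶ pullback T.hom i) ≫ pullback.snd T.hom i = W.hom :=
    MorphismProperty.Over.w w
  obtain ⟨T', hT'⟩ : ∃ T' : X.ProEt, T' = Scheme.ProEt.mk (h ≫ T.hom) := ⟨_, rfl⟩
  subst hT'
  obtain ⟨a, ha⟩ : ∃ a : Scheme.ProEt.mk (h ≫ T.hom) ⟶ T,
      a = MorphismProperty.Over.homMk h rfl trivial := ⟨_, rfl⟩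
  have hal : a.left = h := by rw [ha]; rfl
  have hcw : ((pullbackRightPullbackFstIso T.hom i h).inv ≫ c0) ≫ W.hom =
      pullback.snd (h ≫ T.hom) i := by
    rw [← hwW, Category.assoc, reassoc_of% hc0]
    exact pullbackRightPullbackFstIso_inv_snd_snd T.hom i h
  obtain ⟨c, hc⟩ : ∃ c : (ProEtS.bcP i).obj (Scheme.ProEt.mk (h ≫ T.hom)) ⟶ W,
      c = MorphismProperty.Over.homMk ((pullbackRightPullbackFstIso T.hom i h).inv ≫ c0) hcw
        trivial := ⟨_, rfl⟩
  have hcl : c.left = (pullbackRightPullbackFstIso T.hom i h).inv ≫ c0 := by rw [hc]; rfl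
  refine ⟨Scheme.ProEt.mk (h ≫ T.hom), a, c, hY', ?_, ?_⟩
  · apply MorphismProperty.Over.Hom.ext
    show c.left ≫ (w.left : W.left ⟶ pullback T.hom i) =
      pullback.lift (pullback.fst (h ≫ T.hom) i ≫ a.left) (pullback.snd (h ≫ T.hom) i) _
    rw [hcl, Category.assoc, hc0]
    apply pullback.hom_ext
    · rw [pullback.lift_fst, hal, Category.assoc]
      exact pullbackRightPullbackFstIso_inv_snd_fst T.hom i h
    · rw [pullback.lift_snd, Category.assoc]
      exact pullbackRightPullbackFstIso_inv_snd_snd T.hom i h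
  · rw [hcl]
    infer_instance

/-- the key lemma over a pair of affine opens -/
theorem exists_cover_open (T : X.ProEt) (W : Z.ProEt) (w : W ⟶ (ProEtS.bcP i).obj T)
    (W0 : W.left.Opens) (hW0 : IsAffineOpen W0) (T0 : T.left.Opens) (hT0 : IsAffineOpen T0)
    (hle : W0 ≤ ((w.left : W.left ⟶ pullback T.hom i) ≫ pullback.fst T.hom i) ⁻¹ᵁ T0) :
    ∃ (T' : X.ProEt) (a : T' ⟶ T) (c : (ProEtS.bcP i).obj T' ⟶ W),
      c ≫ w = (ProEtS.bcP i).map a ∧ Set.range c.left = (W0 : Set W.left) ∧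
      CompactSpace ((ProEtS.bcP i).obj T').left := by
  have hwW : (w.left : W.left ⟶ pullback T.hom i) ≫ pullback.snd T.hom i = W.hom :=
    MorphismProperty.Over.w w
  obtain ⟨wT, hwT⟩ : ∃ wT : W.left ⟶ T.left,
      wT = (w.left : W.left ⟶ pullback T.hom i) ≫ pullback.fst T.hom i := ⟨_, rfl⟩
  rw [← hwT] at hle
  obtain ⟨r, hr⟩ : ∃ r : (W0 : Scheme.{u}) ⟶ (T0 : Scheme.{u}), r = wT.resLE T0 W0 hle :=
    ⟨_, rfl⟩
  have hrι : r ≫ T0.ι = W0.ι ≫ wT := by
    rw [hr]
    exact Scheme.Hom.resLE_comp_ι wT hle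
  have hcond : r ≫ (T0.ι ≫ T.hom) = (W0.ι ≫ W.hom) ≫ i := by
    rw [reassoc_of% hrι, hwT, Category.assoc, Category.assoc, pullback.condition,
      ← hwW, Category.assoc]
  haveI : IsAffine (openSub T T0).left := hT0
  haveI : IsAffine (openSub W W0).left := hW0
  have hw0w : pullback.lift r (W0.ι ≫ W.hom) hcond ≫ pullback.snd (T0.ι ≫ T.hom) i =
      W0.ι ≫ W.hom := pullback.lift_snd _ _ _
  obtain ⟨w0, hw0⟩ : ∃ w0 : openSub W W0 ⟶ (ProEtS.bcP i).obj (openSub T T0),
      w0 = MorphismProperty.Over.homMk (pullback.lift r (W0.ι ≫ W.hom) hcond) hw0w trivial :=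
    ⟨_, rfl⟩
  have hw0l : (w0.left : (W0 : Scheme.{u}) ⟶ pullback (T0.ι ≫ T.hom) i) =
      pullback.lift r (W0.ι ≫ W.hom) hcond := by rw [hw0]; rfl
  have hkey : w0 ≫ (ProEtS.bcP i).map (openSubι T T0) = openSubι W W0 ≫ w := by
    apply MorphismProperty.Over.Hom.ext
    show (w0.left : (W0 : Scheme.{u}) ⟶ pullback (T0.ι ≫ T.hom) i) ≫
        pullback.lift (pullback.fst (T0.ι ≫ T.hom) i ≫ T0.ι) (pullback.snd (T0.ι ≫ T.hom) i) _ =
      W0.ι ≫ (w.left : W.left ⟶ pullback T.hom i)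
    rw [hw0l]
    apply pullback.hom_ext
    · rw [Category.assoc, pullback.lift_fst, pullback.lift_fst_assoc, hrι, hwT, Category.assoc]
    · rw [Category.assoc, pullback.lift_snd, pullback.lift_snd, Category.assoc, hwW]
  obtain ⟨T', a0, c0, hT'aff, hc0, hsurj⟩ :=
    exists_cover_affine i (openSub T T0) (openSub W W0) w0
  haveI := hsurj
  haveI := hT'aff
  refine ⟨T', a0 ≫ openSubι T T0, c0 ≫ openSubι W W0, ?_, ?_, ?_⟩
  · rw [Category.assoc, ← hkey, ← Category.assoc, hc0, Functor.map_comp]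
  · show Set.range (c0.left ≫ W0.ι) = (W0 : Set W.left)
    rw [Scheme.Hom.comp_base, TopCat.coe_comp, Set.range_comp,
      Set.range_eq_univ.mpr c0.left.surjective, Set.image_univ]
    exact Scheme.Opens.range_ι W0
  · haveI haffT' : IsAffine ((𝟭 Scheme).obj T'.left) := hT'aff
    haveI : IsAffine (pullback T'.hom i) := isAffine_of_isAffineHom (pullback.fst T'.hom i)
    show CompactSpace ↥(pullback T'.hom i)
    infer_instance

/-- the key lemma: local lifting of objects of the pro-étale site of `Z` over a base change -/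
theorem exists_cover (T : X.ProEt) (W : Z.ProEt) (w : W ⟶ (ProEtS.bcP i).obj T) :
    ∃ (ι : Type u) (T' : ι → X.ProEt) (a : ∀ k, T' k ⟶ T)
      (c : ∀ k, (ProEtS.bcP i).obj (T' k) ⟶ W),
      (∀ k, c k ≫ w = (ProEtS.bcP i).map (a k)) ∧
      Sieve.generate (Presieve.ofArrows (fun k => (ProEtS.bcP i).obj (T' k)) c) ∈
        Scheme.ProEt.topology Z W := by
  obtain ⟨wT, hwT⟩ : ∃ wT : W.left ⟶ T.left,
      wT = (w.left : W.left ⟶ pullback T.hom i) ≫ pullback.fst T.hom i := ⟨_, rfl⟩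
  have H : ∀ k : {p : W.left.affineOpens × T.left.affineOpens // p.1.1 ≤ wT ⁻¹ᵁ p.2.1},
      ∃ (T' : X.ProEt) (a : T' ⟶ T) (c : (ProEtS.bcP i).obj T' ⟶ W),
        c ≫ w = (ProEtS.bcP i).map a ∧ Set.range c.left = (k.1.1.1 : Set W.left) ∧
        CompactSpace ((ProEtS.bcP i).obj T').left := by
    intro k
    exact exists_cover_open i T W w k.1.1.1 k.1.1.2 k.1.2.1 k.1.2.2 (by rw [← hwT]; exact k.2)
  choose T' a c hc1 hc2 hc3 using H
  refine ⟨_, T', a, c, hc1, ?_⟩
  refine ofArrows_mem_of_isCompactOpenCovered _ _ (fun W' hW' => ?_)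
  refine IsCompactOpenCovered.of_isCompact_of_forall_exists_isCompactOpenCovered hW'.isCompact
    (fun x hx => ?_)
  obtain ⟨T0, hT0, hxT0, -⟩ :=
    exists_isAffineOpen_mem_and_subset (x := wT x) (U := ⊤) trivial
  obtain ⟨W0, hW0aff, hxW0, hW0le⟩ := TopologicalSpace.Opens.isBasis_iff_nbhd.mp
    W.left.isBasis_affineOpens (show x ∈ W' ⊓ wT ⁻¹ᵁ T0 from ⟨hx, hxT0⟩)
  have hk : W0 ≤ wT ⁻¹ᵁ T0 := fun y hy => (hW0le hy).2
  refine ⟨W0, fun y hy => (hW0le hy).1, hxW0, W0.2, ?_⟩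
  have h1 := IsCompactOpenCovered.image
    (f := fun k => ((c k).left : ((ProEtS.bcP i).obj (T' k)).left → W.left))
    (i := ⟨(⟨W0, hW0aff⟩, ⟨T0, hT0⟩), hk⟩) ⊤
    (by haveI := hc3 ⟨(⟨W0, hW0aff⟩, ⟨T0, hT0⟩), hk⟩; exact isCompact_univ)
  have h2 := hc2 ⟨(⟨W0, hW0aff⟩, ⟨T0, hT0⟩), hk⟩
  simp only [TopologicalSpace.Opens.coe_top, Set.image_univ] at h1
  rw [h2] at h1
  exact h1

end Groth.Agent.Lib.Helper6.ClImm
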