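import Mathlib
import Groth.Prelude.Def_ProEtS
import Groth.Prelude.Def_PBC
import Groth.Agent.Lib.Helper6.ClImm.CI3

/-! helper6: for a closed immersion `i : Z ⟶ X` the base change functor `X.ProEt ⥤ Z.ProEt` is
cover-dense and locally full for the pro-étale topology of `Z`; hence `i_*` is fully faithful on
sheaves and the counit `i⁻¹ i_* ⟶ 𝟭` is an isomorphism (S0741). -/

set_option autoImplicit false
set_option linter.unusedSectionVars false
set_option linter.unusedVariables false
set_option linter.unusedSimpArgs false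
set_option linter.style.haveILetI false
set_option maxHeartbeats 800000
set_option synthInstance.maxHeartbeats 400000
set_option backward.isDefEq.respectTransparency false

universe u
open CategoryTheory Limits Opposite AlgebraicGeometry

namespace Groth.Agent.Lib.Helper6.ClImm

open H9FE.ProEtQc H9FE.ProEtW

variable {Z X : Scheme.{u}} (i : Z ⟶ X) [IsClosedImmersion i]

theorem isCoverDense_bcP : (ProEtS.bcP i).IsCoverDense (Scheme.ProEt.topology Z) := by
  refine ⟨fun W => ?_⟩
  have hcond : (W.hom ≫ i) ≫ (ProEtS.topP X).hom = W.hom ≫ i := by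
    show (W.hom ≫ i) ≫ 𝟙 X = W.hom ≫ i
    rw [Category.comp_id]
  have hw : pullback.lift (W.hom ≫ i) W.hom hcond ≫ pullback.snd (ProEtS.topP X).hom i = W.hom :=
    pullback.lift_snd _ _ _
  obtain ⟨w⟩ : Nonempty (W ⟶ (ProEtS.bcP i).obj (ProEtS.topP X)) :=
    ⟨MorphismProperty.Over.homMk (pullback.lift (W.hom ≫ i) W.hom hcond) hw trivial⟩
  obtain ⟨ι, T', a, c, hc, hcov⟩ := exists_cover i (ProEtS.topP X) W w
  refine (Scheme.ProEt.topology Z).superset_covering ?_ hcov
  rw [Sieve.generate_le_iff]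
  rintro V f ⟨k⟩
  exact Presieve.in_coverByImage (ProEtS.bcP i) (c k)

theorem isLocallyFull_bcP : (ProEtS.bcP i).IsLocallyFull (Scheme.ProEt.topology Z) := by
  haveI := Groth.Agent.S0730.preservesFiniteLimits_bcP i
  refine ⟨fun {U V} f => ?_⟩
  obtain ⟨w, hw⟩ : ∃ w : (ProEtS.bcP i).obj U ⟶ (ProEtS.bcP i).obj (U ⨯ V),
      w = prod.lift (𝟙 _) f ≫ inv (prodComparison (ProEtS.bcP i) U V) := ⟨_, rfl⟩
  have hw1 : w ≫ (ProEtS.bcP i).map prod.fst = 𝟙 _ := by
    rw [hw, Category.assoc, inv_prodComparison_map_fst, prod.lift_fst]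
  have hw2 : w ≫ (ProEtS.bcP i).map prod.snd = f := by
    rw [hw, Category.assoc, inv_prodComparison_map_snd, prod.lift_snd]
  obtain ⟨ι, T', a, c, hc, hcov⟩ := exists_cover i (U ⨯ V) ((ProEtS.bcP i).obj U) w
  refine (Scheme.ProEt.topology Z).superset_covering ?_ hcov
  rw [Sieve.generate_le_iff]
  rintro V' g ⟨k⟩
  refine ⟨T' k, a k ≫ prod.fst, 𝟙 _, ⟨a k ≫ prod.snd, ?_⟩, ?_⟩
  · rw [Functor.map_comp, Functor.map_comp, ← hc k]
    simp only [Category.assoc]
    rw [hw2, reassoc_of% hw1]
  · rw [Category.id_comp, Functor.map_comp, ← hc k, Category.assoc, hw1, Category.comp_id]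

theorem full_pushP [ProEtS.PCont i] : (ProEtS.pushP i).Full := by
  haveI := isCoverDense_bcP i
  haveI := isLocallyFull_bcP i
  infer_instance

theorem faithful_pushP [ProEtS.PCont i] : (ProEtS.pushP i).Faithful := by
  haveI := isCoverDense_bcP i
  haveI := isLocallyFull_bcP i
  infer_instance

theorem main741 [ProEtS.PCont i] (F : ProEtS.AbP Z) :
    IsIso ((ProEtS.pullPushAdjP i).counit.app F) := by
  haveI := full_pushP i
  haveI := faithful_pushP i
  infer_instance

end Groth.Agent.Lib.Helper6.ClImm
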